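import Groth.Prelude.Def_FSch3
import Groth.Agent.MP99.Ops
import Mathlib.RingTheory.Finiteness.Ideal
import Mathlib.RingTheory.Noetherian.Basic
import Mathlib.RingTheory.Noetherian.OfPrime

/-!
Systems of thickenings: ideal sheaves on affine schemes, powers and inverse images,
local Noetherianity of thickenings, adic morphisms.
-/

set_option autoImplicit false

universe u

open CategoryTheory CategoryTheory.Limits AlgebraicGeometry

namespace Groth.Agent.An92.FSch

/-! ### Ideal sheaves on `Spec R` -/

section Spec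

variable {R S : CommRingCat.{u}}

/-- The ideal of `R` corresponding to an ideal sheaf on `Spec R`. -/
noncomputable def toIdeal (I : (Spec R).IdealSheafData) : Ideal R :=
  (I.ideal ⟨⊤, isAffineOpen_top _⟩).map (Scheme.ΓSpecIso R).hom.hom

theorem toIdeal_eq_comap (I : (Spec R).IdealSheafData) :
    toIdeal I = (I.ideal ⟨⊤, isAffineOpen_top _⟩).comap (Scheme.ΓSpecIso R).inv.hom :=
  Ideal.map_symm (I := I.ideal ⟨⊤, isAffineOpen_top _⟩)
    (Scheme.ΓSpecIso R).symm.commRingCatIsoToRingEquiv

theorem toIdeal_injective : Function.Injective (toIdeal (R := R)) := fun I J h =>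
  Scheme.IdealSheafData.ext_of_isAffine <| by
    rw [toIdeal_eq_comap, toIdeal_eq_comap] at h
    exact Ideal.comap_injective_of_surjective _
      (Scheme.ΓSpecIso R).symm.commRingCatIsoToRingEquiv.surjective h

theorem toIdeal_mul (I J : (Spec R).IdealSheafData) : toIdeal (I * J) = toIdeal I * toIdeal J := by
  simp [toIdeal, Ideal.map_mul]

theorem toIdeal_pow (I : (Spec R).IdealSheafData) (n : ℕ) : toIdeal (I ^ n) = toIdeal I ^ n := by
  simp [toIdeal, Ideal.map_pow]

theorem toIdeal_ker {φ : R ⟶ S} : toIdeal (Spec.map φ).ker = RingHom.ker φ.hom := by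
  rw [toIdeal_eq_comap, Scheme.Hom.ker_apply]
  ext x
  simp only [Ideal.mem_comap, RingHom.mem_ker]
  have h := congrArg (fun g => g.hom x) (Scheme.ΓSpecIso_inv_naturality φ)
  simp only [CommRingCat.hom_comp, RingHom.comp_apply] at h
  change (Spec.map φ).appTop.hom ((Scheme.ΓSpecIso R).inv.hom x) = 0 ↔ _
  rw [← h]
  exact map_eq_zero_iff _ (Scheme.ΓSpecIso S).symm.commRingCatIsoToRingEquiv.injective

theorem toIdeal_comap (J : (Spec R).IdealSheafData) (φ : R ⟶ S) :
    toIdeal (J.comap (Spec.map φ)) = (toIdeal J).map φ.hom := by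
  simp only [toIdeal, MP99.ideal_comap_top_of_isAffine, Ideal.map_map, ← CommRingCat.hom_comp]
  congr 2
  exact Scheme.ΓSpecIso_naturality φ

theorem toIdeal_idealSpec (A : Type u) [CommRing A] (J : Ideal A) :
    toIdeal (_root_.FSch.idealSpec A J) = J :=
  toIdeal_ker.trans Ideal.mk_ker

end Spec

/-! ### Powers and inverse images -/

theorem comap_pow {X Y : Scheme.{u}} (f : X ⟶ Y) (I : Y.IdealSheafData) (n : ℕ) :
    (I ^ n).comap f = I.comap f ^ n := by
  induction n with
  | zero =>
    rw [pow_zero, pow_zero, Scheme.IdealSheafData.one_eq_top, Scheme.IdealSheafData.one_eq_top,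
      Scheme.IdealSheafData.comap_top]
  | succ n ih => rw [pow_succ, pow_succ, MP99.comap_mul, ih]

theorem comap_ker_self {X Y : Scheme.{u}} (f : X ⟶ Y) : f.ker.comap f = ⊥ :=
  le_bot_iff.1 <| (Scheme.IdealSheafData.le_map_iff_comap_le).1
    (Scheme.IdealSheafData.map_bot f).ge

theorem comap_ker_of_isPullback {P X Y Z : Scheme.{u}} {fst : P ⟶ X} {snd : P ⟶ Y} {f : X ⟶ Z}
    {g : Y ⟶ Z} (h : IsPullback fst snd f g) [IsClosedImmersion g] :
    fst.ker = g.ker.comap f := by
  rw [← h.isoPullback_hom_fst, Scheme.Hom.ker_comp_of_isIso,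
    Scheme.IdealSheafData.ker_fst_of_isClosedImmersion]

/-! ### Noetherian thickenings -/

theorem isNoetherianRing_of_nilpotent_ker {A B : Type u} [CommRing A] [CommRing B] (φ : A →+* B)
    (hs : Function.Surjective φ) [IsNoetherianRing B] (hn : IsNilpotent (RingHom.ker φ))
    (hfg : (RingHom.ker φ).FG) : IsNoetherianRing A := by
  refine IsNoetherianRing.of_prime fun P hP => ?_
  obtain ⟨n, hn⟩ := hn
  have hle : RingHom.ker φ ≤ P := by
    refine fun x hx => hP.mem_of_pow_mem n ?_
    have := Ideal.pow_mem_pow hx n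
    rw [hn] at this
    exact (Ideal.zero_eq_bot (R := A) ▸ this : x ^ n ∈ (⊥ : Ideal A)) |> fun h => by
      rw [Ideal.mem_bot.1 h]; exact zero_mem _
  obtain ⟨s, hsp⟩ := IsNoetherian.noetherian (P.map φ)
  choose g hg using fun b : B => hs b
  classical
  have hPe : P = Ideal.span (s.image g : Set A) ⊔ RingHom.ker φ := by
    apply le_antisymm
    · intro x hx
      have h1 : φ x ∈ (Ideal.span (s.image g : Set A)).map φ := by
        rw [Ideal.map_span]
        have : φ '' (s.image g : Set A) = (s : Set B) := by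
          ext b
          simp [hg]
        rw [this]
        exact hsp.ge (Ideal.mem_map_of_mem φ hx)
      have := Ideal.mem_comap.2 h1
      rwa [Ideal.comap_map_of_surjective φ hs, ← RingHom.ker_eq_comap_bot] at this
    · refine sup_le (Ideal.span_le.2 fun a ha => ?_) hle
      obtain ⟨b, hb, rfl⟩ := Finset.mem_image.1 ha
      have h1 : b ∈ P.map φ := hsp.le (Submodule.subset_span hb)
      rw [← hg b] at h1
      have := Ideal.mem_comap.2 h1
      rw [Ideal.comap_map_of_surjective φ hs, ← RingHom.ker_eq_comap_bot] at this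
      exact sup_le le_rfl hle this
  rw [hPe]
  exact Submodule.FG.sup (Submodule.fg_span (Finset.finite_toSet _)) hfg

/-- A closed subscheme with locally Noetherian structure and nilpotent, locally finitely generated
ideal: the ambient scheme is locally Noetherian. -/
theorem isLocallyNoetherian_of_thickening {Z X : Scheme.{u}} (i : Z ⟶ X) [IsClosedImmersion i]
    [IsLocallyNoetherian Z] {N : ℕ} (hn : i.ker ^ N = ⊥)
    (hfg : ∀ x : X, ∃ U : X.affineOpens, x ∈ U.1 ∧
      ∀ V : X.affineOpens, V.1 ≤ U.1 → (i.ker.ideal V).FG) :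
    IsLocallyNoetherian X := by
  choose U hU hUfg using hfg
  refine isLocallyNoetherian_of_affine_cover (S := U)
    (top_unique fun x _ => TopologicalSpace.Opens.mem_iSup.2 ⟨x, hU x⟩) fun x => ?_
  have : IsNoetherianRing Γ(Z, i ⁻¹ᵁ (U x).1) :=
    IsLocallyNoetherian.component_noetherian ⟨_, (U x).2.preimage i⟩
  refine isNoetherianRing_of_nilpotent_ker (i.app (U x).1).hom
    (i.app_surjective (U x).1 (U x).2) ⟨N, ?_⟩ ?_
  · rw [← Scheme.Hom.ker_apply, Ideal.zero_eq_bot]
    have := congrArg (fun K : X.IdealSheafData => K.ideal (U x)) hn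
    simpa using this
  · rw [← Scheme.Hom.ker_apply]
    exact hUfg x (U x) le_rfl

end Groth.Agent.An92.FSch
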