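import Groth.Agent.An92.FSch.Thick

/-!
The formal spectrum as a system of thickenings.
-/

set_option autoImplicit false

universe u

open CategoryTheory CategoryTheory.Limits AlgebraicGeometry

namespace Groth.Agent.An92.FSch

open _root_.FSch

variable {A : Type u} [CommRing A] (J : Ideal A)

theorem le_pow_one (n : ℕ) : J ^ (n + 1) ≤ J ^ (0 + 1) :=
  Ideal.pow_le_pow_right (by omega)

theorem ker_factor {I K : Ideal A} (h : I ≤ K) :
    RingHom.ker (Ideal.Quotient.factor h) = K.map (Ideal.Quotient.mk I) :=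
  Ideal.Quotient.factor_ker h

theorem toX_spf (n : ℕ) : (spf A J).toX n =
    Spec.map (CommRingCat.ofHom (Ideal.Quotient.factor (le_pow_one J n))) := by
  induction n with
  | zero =>
    have h : Ideal.Quotient.factor (le_pow_one J 0) = RingHom.id _ :=
      Ideal.Quotient.ringHom_ext (RingHom.ext fun x => by simp)
    rw [h, CommRingCat.ofHom_id, Spec.map_id]
    simp only [Sys.toX]
    rfl
  | succ n ih =>
    have h : CommRingCat.ofHom (Ideal.Quotient.factor (le_pow_one J (n + 1))) =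
        CommRingCat.ofHom (Ideal.Quotient.factor
          (Ideal.pow_le_pow_right (Nat.le_succ (n + 1)) : J ^ (n + 1 + 1) ≤ J ^ (n + 1))) ≫
        CommRingCat.ofHom (Ideal.Quotient.factor (le_pow_one J n)) := by
      rw [← CommRingCat.ofHom_comp]
      congr 1
      exact Ideal.Quotient.ringHom_ext (RingHom.ext fun x => by simp)
    rw [h, Spec.map_comp, ← ih]
    rfl

theorem toIdeal_ker_ι (n : ℕ) :
    toIdeal ((spf A J).ι n).ker = (J ^ (n + 1)).map (Ideal.Quotient.mk (J ^ (n + 2))) :=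
  (toIdeal_ker (φ := CommRingCat.ofHom (Ideal.Quotient.factor
    (Ideal.pow_le_pow_right (Nat.le_succ (n + 1)) : J ^ (n + 1 + 1) ≤ J ^ (n + 1))))).trans
    (ker_factor (Ideal.pow_le_pow_right (Nat.le_succ (n + 1)) : J ^ (n + 1 + 1) ≤ J ^ (n + 1)))

theorem toIdeal_ker_toX (n : ℕ) :
    toIdeal ((spf A J).toX n).ker = J.map (Ideal.Quotient.mk (J ^ (n + 1))) := by
  rw [toX_spf]
  refine (toIdeal_ker (φ := CommRingCat.ofHom (Ideal.Quotient.factor (le_pow_one J n)))).trans ?_
  rw [CommRingCat.hom_ofHom, ker_factor, zero_add, pow_one]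

theorem isAdic_spf : (spf A J).IsAdic := fun n =>
  toIdeal_injective (R := CommRingCat.of (A ⧸ J ^ (n + 1 + 1))) <| by
    refine (toIdeal_ker_ι J n).trans (Eq.symm ?_)
    refine (toIdeal_pow (R := CommRingCat.of (A ⧸ J ^ (n + 1 + 1))) _ _).trans ?_
    rw [Ideal.map_pow]
    exact congrArg (· ^ (n + 1)) (toIdeal_ker_toX J (n + 1))

theorem isFormal_spf : (spf A J).IsFormal := fun n => by
  refine ⟨IsClosedImmersion.spec_of_surjective (CommRingCat.ofHom (Ideal.Quotient.factor
    (Ideal.pow_le_pow_right (Nat.le_succ (n + 1)) : J ^ (n + 1 + 1) ≤ J ^ (n + 1))))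
    (Ideal.Quotient.factor_surjective (Ideal.pow_le_pow_right (Nat.le_succ (n + 1)) : J ^ (n + 1 + 1) ≤ J ^ (n + 1))), fun p => ?_⟩
  have h : RingHom.ker (Ideal.Quotient.factor (Ideal.pow_le_pow_right (Nat.le_succ (n + 1)) :
      J ^ (n + 1 + 1) ≤ J ^ (n + 1))) ≤ p.asIdeal := by
    rw [Ideal.Quotient.factor_ker]
    refine Ideal.map_le_iff_le_comap.2 fun x hx => ?_
    refine p.isPrime.mem_of_pow_mem 2 ?_
    change (Ideal.Quotient.mk _ x) ^ 2 ∈ _
    rw [← map_pow, Ideal.Quotient.eq_zero_iff_mem.2, ]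
    · exact zero_mem _
    · have := Ideal.pow_mem_pow hx 2
      rw [← pow_mul] at this
      exact Ideal.pow_le_pow_right (by omega) this
  obtain ⟨q, hq⟩ := (range_comap_of_surjective _ _
    (Ideal.Quotient.factor_surjective (Ideal.pow_le_pow_right (Nat.le_succ (n + 1)) : J ^ (n + 1 + 1) ≤ J ^ (n + 1)))).ge (show p ∈ PrimeSpectrum.zeroLocus _ from h)
  exact ⟨q, hq⟩

theorem isLocNoethFormal_spf [IsNoetherianRing A] : (spf A J).IsLocNoethFormal := by
  refine ⟨isFormal_spf J, isAdic_spf J, fun n => ?_⟩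
  change IsLocallyNoetherian (Spec _)
  have : IsNoetherianRing (CommRingCat.of (A ⧸ J ^ (n + 1))) :=
    inferInstanceAs (IsNoetherianRing (A ⧸ J ^ (n + 1)))
  infer_instance

end Groth.Agent.An92.FSch

namespace Groth.Agent.An92.FSch

open _root_.FSch

/-- A square of systems which is cartesian at every level is cartesian. -/
theorem isPullback_of_app {P 𝔛 𝔜 𝔖 : Sys.{u}} (p : P ⟶ 𝔛) (q : P ⟶ 𝔜) (f : 𝔛 ⟶ 𝔖) (g : 𝔜 ⟶ 𝔖)
    (h : ∀ n, IsPullback ((p : Hom _ _).app n) ((q : Hom _ _).app n) ((f : Hom _ _).app n)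
      ((g : Hom _ _).app n)) : IsPullback p q f g := by
  have w : p ≫ f = q ≫ g := Hom.ext (funext fun n => (h n).w)
  refine IsPullback.of_isLimit (PullbackCone.IsLimit.mk (fst := p) (snd := q) w
    (fun s => ⟨fun n => (h n).lift ((s.fst : Hom _ _).app n) ((s.snd : Hom _ _).app n)
        (congrArg (fun t : Hom _ _ => t.app n) s.condition), fun n => ?_⟩) ?_ ?_ ?_)
  · apply (h (n + 1)).hom_ext
    · rw [Category.assoc, Category.assoc, ← (p : Hom _ _).comm n, IsPullback.lift_fst,
        IsPullback.lift_fst_assoc]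
      exact (s.fst : Hom _ _).comm n
    · rw [Category.assoc, Category.assoc, ← (q : Hom _ _).comm n, IsPullback.lift_snd,
        IsPullback.lift_snd_assoc]
      exact (s.snd : Hom _ _).comm n
  · exact fun s => Hom.ext (funext fun n => (h n).lift_fst _ _ _)
  · exact fun s => Hom.ext (funext fun n => (h n).lift_snd _ _ _)
  · intro s m h₁ h₂
    refine Hom.ext (funext fun n => (h n).hom_ext ?_ ?_)
    · exact (congrArg (fun t : Hom _ _ => t.app n) h₁).trans ((h n).lift_fst _ _ _).symm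
    · exact (congrArg (fun t : Hom _ _ => t.app n) h₂).trans ((h n).lift_snd _ _ _).symm

end Groth.Agent.An92.FSch
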