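import Groth.Prelude.Def_FSch3
import Groth.Agent.Frg27.ComplMap
import Groth.Agent.CAlg1.Complete
import Groth.Agent.FlatMor66.FlatDescentSource
import Mathlib.RingTheory.Flat.EquationalCriterion
import Mathlib.RingTheory.Flat.FaithfullyFlat.Algebra
import Mathlib.RingTheory.LocalRing.RingHom.Basic
import Mathlib.RingTheory.Localization.LocalizationLocalization

/-!
The stalk ring `A_{S}` of a formal spectrum at an open prime.
-/

set_option autoImplicit false
set_option linter.style.haveILetI false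

universe u

namespace Groth.Agent.An92.FSch

open _root_.FSch

section Completion

variable {R : Type u} [CommRing R] (I : Ideal R)

theorem isUnit_of_isUnit_evalₐ_one {x : AdicCompletion I R}
    (h : IsUnit (AdicCompletion.evalₐ I 1 x)) : IsUnit x := by
  classical
  have hn : ∀ n, IsUnit (AdicCompletion.evalₐ I n x) := by
    intro n
    obtain ⟨a, ha⟩ := Ideal.Quotient.mk_surjective (AdicCompletion.evalₐ I n x)
    rcases Nat.eq_zero_or_pos n with rfl | hpos
    · haveI : Subsingleton (R ⧸ I ^ 0) := Ideal.Quotient.subsingleton_iff.2 (by simp)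
      exact isUnit_of_subsingleton _
    have h1 : IsUnit (Ideal.Quotient.mk (I ^ 1) a) := by
      obtain ⟨s, rfl⟩ := AdicCompletion.mk_surjective I R x
      rw [AdicCompletion.evalₐ_mk] at ha h
      have : (Ideal.Quotient.mk (I ^ 1)) a = Ideal.Quotient.mk (I ^ 1) (s.val 1) := by
        have h2 := s.2 hpos
        rw [SModEq.sub_mem] at h2
        simp only [smul_eq_mul, Ideal.mul_top] at h2
        rw [Ideal.Quotient.eq] at ha ⊢
        have h3 := (I ^ 1).sub_mem (Ideal.pow_le_pow_right hpos ha) h2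
        simpa using h3
      rwa [this]
    obtain ⟨b, hb⟩ := h1.exists_right_inv
    obtain ⟨b, rfl⟩ := Ideal.Quotient.mk_surjective b
    rw [← ha]
    have he : IsNilpotent (Ideal.Quotient.mk (I ^ n) (a * b - 1)) := by
      refine ⟨n, ?_⟩
      rw [← map_pow, Ideal.Quotient.eq_zero_iff_mem]
      refine Ideal.pow_mem_pow ?_ n
      rw [← map_mul, ← map_one (Ideal.Quotient.mk (I ^ 1)), Ideal.Quotient.eq] at hb
      simpa using hb
    have := he.isUnit_one_add
    rw [← map_one (Ideal.Quotient.mk (I ^ n)), ← map_add, add_sub_cancel, map_mul] at this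
    exact isUnit_of_mul_isUnit_left this
  choose v hv using fun n => (hn n).exists_right_inv
  let f : ∀ n, Polynomial ℤ →+* R ⧸ I ^ n := fun n => Polynomial.eval₂RingHom (Int.castRingHom _) (v n)
  have hf : ∀ {m n : ℕ} (hle : m ≤ n), (Ideal.Quotient.factorPow I hle).comp (f n) = f m := by
    intro m n hle
    refine Polynomial.ringHom_ext (fun a => by simp) ?_
    simp only [f, RingHom.comp_apply, Polynomial.coe_eval₂RingHom, Polynomial.eval₂_X]
    have h1 := congrArg (Ideal.Quotient.factorPow I hle) (hv n)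
    rw [map_mul, map_one] at h1
    have h2 : Ideal.Quotient.factorPow I hle (AdicCompletion.evalₐ I n x) =
        AdicCompletion.evalₐ I m x := by
      obtain ⟨s, rfl⟩ := AdicCompletion.mk_surjective I R x
      rw [AdicCompletion.evalₐ_mk, AdicCompletion.evalₐ_mk]
      change Ideal.Quotient.mk (I ^ m) _ = _
      rw [Ideal.Quotient.eq]
      have h4 := s.2 hle
      rw [SModEq.sub_mem] at h4
      simp only [smul_eq_mul, Ideal.mul_top] at h4
      rw [← neg_sub]
      exact (I ^ m).neg_mem h4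
    rw [h2] at h1
    exact (left_inv_eq_right_inv (by rw [mul_comm]; exact hv m) h1).symm
  refine IsUnit.of_mul_eq_one (AdicCompletion.liftRingHom I f hf Polynomial.X) ?_
  refine AdicCompletion.ext_evalₐ fun n => ?_
  rw [map_mul, map_one, AdicCompletion.evalₐ_liftRingHom]
  simpa [f] using hv n

theorem evalₐ_algebraMap (n : ℕ) (r : R) :
    AdicCompletion.evalₐ I n (algebraMap R (AdicCompletion I R) r) = Ideal.Quotient.mk _ r :=
  (AdicCompletion.evalₐ I n).commutes r

end Completion

section Compl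

variable {S T U : Type u} [CommRing S] [CommRing T] [CommRing U] {I : Ideal S} {K : Ideal T}
  {L : Ideal U} {g : S →+* T} {g' : T →+* U}

theorem evalₐ_complMap (h : I.map g ≤ K) (n : ℕ) (x : AdicCompletion I S) :
    AdicCompletion.evalₐ K n (complMap I K g h x) =
      Ideal.quotientMap (K ^ n) g (pow_le_comap_pow_of_map_le I K g h n)
        (AdicCompletion.evalₐ I n x) := by
  unfold complMap
  apply AdicCompletion.evalₐ_liftRingHom
  intro m n hle
  apply RingHom.ext
  intro x
  obtain ⟨y, rfl⟩ := AdicCompletion.mk_surjective I S x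
  simp only [RingHom.coe_comp, Function.comp_apply, AlgHom.toRingHom_eq_coe, AlgHom.coe_toRingHom,
    AdicCompletion.evalₐ_mk, Ideal.quotientMap_mk, Ideal.Quotient.factorPow, Ideal.Quotient.factor_mk]
  rw [Ideal.Quotient.eq]
  have hy := y.2 hle
  rw [SModEq.sub_mem] at hy
  simp only [smul_eq_mul, Ideal.mul_top] at hy
  rw [← map_sub]
  have hy' : (y : ℕ → S) n - (y : ℕ → S) m ∈ I ^ m := by
    rw [← neg_sub]; exact (I ^ m).neg_mem hy
  exact pow_le_comap_pow_of_map_le I K g h m hy'

theorem complMap_algebraMap (h : I.map g ≤ K) (s : S) :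
    complMap I K g h (algebraMap S _ s) = algebraMap T _ (g s) :=
  AdicCompletion.ext_evalₐ fun n => by
    rw [evalₐ_complMap, evalₐ_algebraMap, evalₐ_algebraMap, Ideal.quotientMap_mk]

theorem complMap_complMap (h : I.map g ≤ K) (h' : K.map g' ≤ L) (g'' : S →+* U)
    (h'' : I.map g'' ≤ L) (e : g'.comp g = g'') (x : AdicCompletion I S) :
    complMap K L g' h' (complMap I K g h x) = complMap I L g'' h'' x := by
  subst e
  refine AdicCompletion.ext_evalₐ fun n => ?_
  simp only [evalₐ_complMap]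
  obtain ⟨a, ha⟩ := Ideal.Quotient.mk_surjective (AdicCompletion.evalₐ I n x)
  rw [← ha]
  simp [Ideal.quotientMap_mk]

end Compl

section Stalk

variable {A : Type u} [CommRing A] {J : Ideal A} {𝔭 : Ideal A} [𝔭.IsPrime]

/-- `A_f → A_{fg}`. -/
noncomputable def awayMul (f g : A) : Localization.Away f →+* Localization.Away (f * g) :=
  IsLocalization.Away.lift f (g := algebraMap A (Localization.Away (f * g)))
    (isUnit_of_mul_isUnit_left (y := algebraMap A (Localization.Away (f * g)) g)
      (by rw [← map_mul]; exact IsLocalization.Away.algebraMap_isUnit _))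

theorem awayMul_comp (f g : A) :
    (awayMul f g).comp (algebraMap A _) = algebraMap A (Localization.Away (f * g)) :=
  RingHom.ext fun a => by simp [awayMul]

theorem awayToAtPrime_comp (f : A) (hf : f ∉ 𝔭) :
    (awayToAtPrime A 𝔭 f hf).comp (algebraMap A _) = algebraMap A (Localization.AtPrime 𝔭) :=
  RingHom.ext fun a => by simp [awayToAtPrime]

theorem map_awayMul_le (f g : A) :
    (J.map (algebraMap A (Localization.Away f))).map (awayMul f g) ≤
      J.map (algebraMap A (Localization.Away (f * g))) := by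
  rw [Ideal.map_map, awayMul_comp]

variable (J) in
/-- `A_{f} → A_{fg}` on completions. -/
noncomputable def cAwayMul (f g : A) : cAway A J f →+* cAway A J (f * g) :=
  complMap _ _ (awayMul f g) (map_awayMul_le f g)

theorem cAwayToAtPrime_cAwayMul (f g : A) (hf : f ∉ 𝔭) (hfg : f * g ∉ 𝔭) (x : cAway A J f) :
    cAwayToAtPrime A J 𝔭 (f * g) hfg (cAwayMul J f g x) = cAwayToAtPrime A J 𝔭 f hf x :=
  complMap_complMap _ _ _ _ (IsLocalization.ringHom_ext (Submonoid.powers f) (by
    rw [RingHom.comp_assoc, awayMul_comp, awayToAtPrime_comp, awayToAtPrime_comp])) x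

theorem range_le_range_mul (f g : A) (hf : f ∉ 𝔭) (hfg : f * g ∉ 𝔭) :
    (cAwayToAtPrime A J 𝔭 f hf).range ≤ (cAwayToAtPrime A J 𝔭 (f * g) hfg).range := by
  rintro _ ⟨x, rfl⟩
  exact ⟨cAwayMul J f g x, cAwayToAtPrime_cAwayMul f g hf hfg x⟩

theorem range_congr {f f' : A} (e : f = f') (hf : f ∉ 𝔭) (hf' : f' ∉ 𝔭) :
    (cAwayToAtPrime A J 𝔭 f hf).range = (cAwayToAtPrime A J 𝔭 f' hf').range := by
  subst e; rfl

theorem range_le_range_mul' (f g : A) (hg : g ∉ 𝔭) (hfg : f * g ∉ 𝔭) :
    (cAwayToAtPrime A J 𝔭 g hg).range ≤ (cAwayToAtPrime A J 𝔭 (f * g) hfg).range :=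
  (range_le_range_mul g f hg (mul_comm f g ▸ hfg)).trans (range_congr (mul_comm g f) _ _).le

theorem mem_stalkSubring {x : cAtPrime A J 𝔭} :
    x ∈ stalkSubring A J 𝔭 ↔ ∃ (f : A) (hf : f ∉ 𝔭) (y : cAway A J f),
      cAwayToAtPrime A J 𝔭 f hf y = x := by
  haveI : Nonempty {f : A // f ∉ 𝔭} := ⟨⟨1, Ideal.IsPrime.one_notMem ‹_›⟩⟩
  rw [stalkSubring, Subring.mem_iSup_of_directed]
  · exact ⟨fun ⟨⟨f, hf⟩, y, hy⟩ => ⟨f, hf, y, hy⟩, fun ⟨f, hf, y, hy⟩ => ⟨⟨f, hf⟩, y, hy⟩⟩
  · intro a b
    exact ⟨⟨a.1 * b.1, fun h => ((Ideal.IsPrime.mem_or_mem ‹_› h).elim a.2 b.2)⟩,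
      range_le_range_mul a.1 b.1 a.2 _, range_le_range_mul' a.1 b.1 b.2 _⟩

theorem map_le_maximal (hJ : J ≤ 𝔭) :
    J.map (algebraMap A (Localization.AtPrime 𝔭)) ≤
      IsLocalRing.maximalIdeal (Localization.AtPrime 𝔭) := by
  rw [← Localization.AtPrime.map_eq_maximalIdeal]
  exact Ideal.map_mono hJ

theorem isUnit_of_isUnit_mk {R : Type u} [CommRing R] [IsLocalRing R] {I : Ideal R}
    (hI : I ≤ IsLocalRing.maximalIdeal R) {r : R} (h : IsUnit (Ideal.Quotient.mk I r)) : IsUnit r := by
  by_contra hr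
  have h1 : IsUnit (Ideal.Quotient.mk (IsLocalRing.maximalIdeal R) r) := by
    simpa using h.map (Ideal.Quotient.factor hI)
  rw [Ideal.Quotient.eq_zero_iff_mem.2 ((IsLocalRing.mem_maximalIdeal r).2 hr)] at h1
  exact not_isUnit_zero h1

theorem isLocalRing_cAtPrime (hJ : J ≤ 𝔭) : IsLocalRing (cAtPrime A J 𝔭) := by
  set K := J.map (algebraMap A (Localization.AtPrime 𝔭)) with hK
  haveI : Nontrivial (Localization.AtPrime 𝔭 ⧸ K ^ 1) :=
    Ideal.Quotient.nontrivial_iff.2 (by
      rw [pow_one]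
      exact ne_top_of_le_ne_top (IsLocalRing.maximalIdeal.isMaximal _).ne_top (map_le_maximal hJ))
  haveI : IsLocalRing (Localization.AtPrime 𝔭 ⧸ K ^ 1) :=
    IsLocalRing.of_surjective' _ Ideal.Quotient.mk_surjective
  haveI : IsLocalHom (AdicCompletion.evalₐ K 1).toRingHom :=
    ⟨fun x hx => isUnit_of_isUnit_evalₐ_one K hx⟩
  exact RingHom.domain_isLocalRing (AdicCompletion.evalₐ K 1).toRingHom

theorem isLocalHom_algebraMap_cAtPrime (hJ : J ≤ 𝔭) :
    IsLocalHom (algebraMap (Localization.AtPrime 𝔭) (cAtPrime A J 𝔭)) := ⟨fun r hr => by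
  have := hr.map (AdicCompletion.evalₐ (J.map (algebraMap A (Localization.AtPrime 𝔭))) 1)
  rw [evalₐ_algebraMap] at this
  exact isUnit_of_isUnit_mk (by rw [pow_one]; exact map_le_maximal hJ) this⟩

theorem algebraMap_mem_stalkSubring (r : Localization.AtPrime 𝔭) :
    algebraMap _ (cAtPrime A J 𝔭) r ∈ stalkSubring A J 𝔭 := by
  obtain ⟨a, ⟨s, hs⟩, rfl⟩ := IsLocalization.exists_mk'_eq 𝔭.primeCompl r
  refine mem_stalkSubring.2 ⟨s, hs, algebraMap (Localization.Away s) _
    (IsLocalization.mk' (Localization.Away s) a (⟨s, Submonoid.mem_powers s⟩ : Submonoid.powers s)), ?_⟩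
  unfold cAwayToAtPrime
  rw [complMap_algebraMap]
  congr 1
  rw [IsLocalization.eq_mk'_iff_mul_eq, ← RingHom.congr_fun (awayToAtPrime_comp s hs) s,
    RingHom.comp_apply, ← map_mul, IsLocalization.mk'_spec,
    ← RingHom.comp_apply, awayToAtPrime_comp s hs]

theorem isLocalHom_subtype (hJ : J ≤ 𝔭) : IsLocalHom (stalkSubring A J 𝔭).subtype := by
  refine ⟨fun x hx => ?_⟩
  obtain ⟨f, hf, y, hy⟩ := mem_stalkSubring.1 x.2
  set K := J.map (algebraMap A (Localization.Away f)) with hK
  obtain ⟨r, hr⟩ := Ideal.Quotient.mk_surjective (AdicCompletion.evalₐ K 1 y)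
  obtain ⟨a, ⟨_, k, rfl⟩, rfl⟩ := IsLocalization.exists_mk'_eq (Submonoid.powers f) r
  -- the numerator is a unit at the prime
  have ha : a ∉ 𝔭 := by
    have h1 : IsUnit (x : cAtPrime A J 𝔭) := hx
    rw [← hy] at h1
    have h2 := h1.map (AdicCompletion.evalₐ (J.map (algebraMap A (Localization.AtPrime 𝔭))) 1)
    unfold cAwayToAtPrime at h2
    rw [evalₐ_complMap, ← hr, Ideal.quotientMap_mk] at h2
    have h3 := isUnit_of_isUnit_mk (by rw [pow_one]; exact map_le_maximal hJ) h2
    intro hap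
    have h4 : IsUnit (awayToAtPrime A 𝔭 f hf (algebraMap A (Localization.Away f) a)) := by
      rw [← IsLocalization.mk'_spec (Localization.Away f) a (⟨f ^ k, k, rfl⟩ : Submonoid.powers f),
        map_mul]
      exact h3.mul ((IsLocalization.map_units (Localization.Away f)
        (⟨f ^ k, k, rfl⟩ : Submonoid.powers f)).map _)
    rw [← RingHom.comp_apply, awayToAtPrime_comp,
      IsLocalization.AtPrime.isUnit_to_map_iff (Localization.AtPrime 𝔭) 𝔭] at h4
    exact h4 hap
  have hfa : f * a ∉ 𝔭 := fun h => (Ideal.IsPrime.mem_or_mem ‹_› h).elim hf ha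
  -- the element becomes a unit in `A_{fa}`
  have hu : IsUnit (cAwayMul J f a y) := by
    refine isUnit_of_isUnit_evalₐ_one _ ?_
    unfold cAwayMul
    rw [evalₐ_complMap, ← hr, Ideal.quotientMap_mk]
    refine IsUnit.map _ ?_
    have h5 : IsUnit (algebraMap A (Localization.Away (f * a)) a) :=
      isUnit_of_mul_isUnit_right (x := algebraMap A (Localization.Away (f * a)) f)
        (by rw [← map_mul]; exact IsLocalization.Away.algebraMap_isUnit _)
    rw [← awayMul_comp, RingHom.comp_apply,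
      ← IsLocalization.mk'_spec (Localization.Away f) a (⟨f ^ k, k, rfl⟩ : Submonoid.powers f),
      map_mul] at h5
    exact isUnit_of_mul_isUnit_left h5
  let φ : cAway A J (f * a) →+* stalkSubring A J 𝔭 :=
    (cAwayToAtPrime A J 𝔭 (f * a) hfa).codRestrict _ fun z => mem_stalkSubring.2 ⟨_, hfa, z, rfl⟩
  have : φ (cAwayMul J f a y) = x :=
    Subtype.ext ((cAwayToAtPrime_cAwayMul f a hf hfa y).trans hy)
  rw [← this]
  exact hu.map φ

theorem isLocalRing_stalkSubring (hJ : J ≤ 𝔭) : IsLocalRing (stalkSubring A J 𝔭) :=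
  haveI := isLocalRing_cAtPrime hJ
  haveI := isLocalHom_subtype hJ
  RingHom.domain_isLocalRing (stalkSubring A J 𝔭).subtype

theorem isTrivialRelation_of_lift {C S B : Type u} [CommRing C] [CommRing S] [CommRing B]
    [Algebra S B] (φ : C →+* S) (h : ((algebraMap S B).comp φ).Flat) {l : ℕ} (y : Fin l → C)
    (b : Fin l → B) (hrel : ∑ i, φ (y i) • b i = 0) :
    Module.IsTrivialRelation (fun i => φ (y i)) b := by
  let : Algebra C B := ((algebraMap S B).comp φ).toAlgebra
  haveI : Module.Flat C B := h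
  have hrel' : ∑ i, y i • b i = 0 := by
    refine Eq.trans (Finset.sum_congr rfl fun i _ => ?_) hrel
    change ((algebraMap S B).comp φ) (y i) * b i = φ (y i) • b i
    rw [RingHom.comp_apply, ← Algebra.smul_def]
  obtain ⟨k, a, z, h1, h2⟩ := Module.Flat.isTrivialRelation_of_sum_smul_eq_zero (R := C) (M := B)
    (f := y) (x := b) hrel'
  refine ⟨k, fun i j => φ (a i j), z, fun i => ?_, fun j => ?_⟩
  · rw [h1 i]
    refine Finset.sum_congr rfl fun j _ => ?_
    change ((algebraMap S B).comp φ) (a i j) * z j = φ (a i j) • z j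
    rw [RingHom.comp_apply, ← Algebra.smul_def]
  · have h3 := congrArg φ (h2 j)
    simp only [map_sum, map_mul, map_zero] at h3
    exact h3

/-- `A_{f} → A_{S}`. -/
noncomputable def cAwayToStalk (f : A) (hf : f ∉ 𝔭) : cAway A J f →+* stalkSubring A J 𝔭 :=
  (cAwayToAtPrime A J 𝔭 f hf).codRestrict _ fun z => mem_stalkSubring.2 ⟨_, hf, z, rfl⟩

theorem flat_cAwayToAtPrime [IsNoetherianRing A] (f : A) (hf : f ∉ 𝔭) :
    (cAwayToAtPrime A J 𝔭 f hf).Flat := by
  refine Frg27.flat_complMap J _ (awayToAtPrime_comp f hf) ?_ _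
  let : Algebra (Localization.Away f) (Localization.AtPrime 𝔭) := (awayToAtPrime A 𝔭 f hf).toAlgebra
  haveI : IsScalarTower A (Localization.Away f) (Localization.AtPrime 𝔭) :=
    IsScalarTower.of_algebraMap_eq fun a => (RingHom.congr_fun (awayToAtPrime_comp f hf) a).symm
  haveI : IsLocalization (𝔭.primeCompl.map (algebraMap A (Localization.Away f)))
      (Localization.AtPrime 𝔭) :=
    IsLocalization.isLocalization_of_submonoid_le (Localization.Away f) (Localization.AtPrime 𝔭)
      (Submonoid.powers f) 𝔭.primeCompl (Submonoid.powers_le.2 hf)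
  exact IsLocalization.flat (Localization.AtPrime 𝔭)
    (𝔭.primeCompl.map (algebraMap A (Localization.Away f)))

theorem flat_stalkSubring [IsNoetherianRing A] :
    Module.Flat (stalkSubring A J 𝔭) (cAtPrime A J 𝔭) := by
  refine Module.Flat.of_forall_isTrivialRelation fun {l} {s} {b} hrel => ?_
  -- all coefficients live in one completed localization
  have key : ∀ t : Finset (Fin l), ∃ (f : A) (hf : f ∉ 𝔭), ∀ i ∈ t,
      (s i : cAtPrime A J 𝔭) ∈ (cAwayToAtPrime A J 𝔭 f hf).range := by
    intro t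
    induction t using Finset.cons_induction with
    | empty => exact ⟨1, Ideal.IsPrime.one_notMem ‹_›, fun i hi => absurd hi (Finset.notMem_empty i)⟩
    | cons i t hit ih =>
      obtain ⟨f, hf, hft⟩ := ih
      obtain ⟨g, hg, hgi⟩ := mem_stalkSubring.1 (s i).2
      have hfg : f * g ∉ 𝔭 := fun h => (Ideal.IsPrime.mem_or_mem ‹_› h).elim hf hg
      refine ⟨f * g, hfg, fun j hj => ?_⟩
      rcases Finset.mem_cons.1 hj with rfl | hj
      · exact range_le_range_mul' f g hg hfg hgi
      · exact range_le_range_mul f g hf hfg (hft j hj)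
  obtain ⟨f, hf, hft⟩ := key Finset.univ
  choose y hy using fun i => hft i (Finset.mem_univ i)
  obtain rfl : s = fun i => cAwayToStalk f hf (y i) := funext fun i => Subtype.ext (hy i).symm
  exact isTrivialRelation_of_lift (cAwayToStalk f hf) (flat_cAwayToAtPrime f hf) y b hrel

theorem faithfullyFlat_stalkSubring [IsNoetherianRing A] (hJ : J ≤ 𝔭) :
    Module.FaithfullyFlat (stalkSubring A J 𝔭) (cAtPrime A J 𝔭) := by
  haveI := isLocalRing_stalkSubring hJ
  haveI := isLocalRing_cAtPrime hJ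
  haveI := flat_stalkSubring (J := J) (𝔭 := 𝔭)
  haveI : IsLocalHom (algebraMap (stalkSubring A J 𝔭) (cAtPrime A J 𝔭)) := isLocalHom_subtype hJ
  exact Module.FaithfullyFlat.of_flat_of_isLocalHom

theorem isNoetherianRing_stalkSubring [IsNoetherianRing A] (hJ : J ≤ 𝔭) :
    IsNoetherianRing (stalkSubring A J 𝔭) := by
  haveI := faithfullyFlat_stalkSubring hJ
  haveI : IsNoetherianRing (cAtPrime A J 𝔭) :=
    CAlg1.isNoetherianRing_adicCompletion _ (IsNoetherian.noetherian _)
  refine isNoetherianRing_iff.2 (isNoetherian_iff'.2 ?_)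
  refine StrictMono.wellFoundedGT
    (f := Ideal.map (algebraMap (stalkSubring A J 𝔭) (cAtPrime A J 𝔭))) fun I K hIK => ?_
  refine lt_of_le_of_ne (Ideal.map_mono hIK.le) fun e => hIK.ne ?_
  rw [← Ideal.comap_map_eq_self_of_faithfullyFlat (B := cAtPrime A J 𝔭) I, e,
    Ideal.comap_map_eq_self_of_faithfullyFlat]

end Stalk

end Groth.Agent.An92.FSch
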