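import Groth.Agent.An92.FSch.Basic

/-!
Formal systems of thickenings: nilpotent kernels, locally Noetherian levels, adic morphisms.
-/

set_option autoImplicit false

universe u

open CategoryTheory CategoryTheory.Limits AlgebraicGeometry

namespace Groth.Agent.An92.FSch

open _root_.FSch

variable {𝔛 : Sys.{u}}

theorem isClosedImmersion_toX (hF : 𝔛.IsFormal) : ∀ n, IsClosedImmersion (𝔛.toX n)
  | 0 => inferInstanceAs (IsClosedImmersion (𝟙 _))
  | n + 1 => by
    have := isClosedImmersion_toX hF n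
    have := (hF n).1
    exact inferInstanceAs (IsClosedImmersion (𝔛.toX n ≫ 𝔛.ι n))

theorem comap_ker_toX_succ (hF : 𝔛.IsFormal) (n : ℕ) :
    (𝔛.toX (n + 1)).ker.comap (𝔛.ι n) = (𝔛.toX n).ker := by
  have := (hF n).1
  have := isClosedImmersion_toX hF (n + 1)
  have hsq : IsPullback (𝔛.toX n) (𝟙 _) (𝔛.ι n) (𝔛.toX (n + 1)) :=
    IsPullback.of_isLimit (PullbackCone.IsLimit.mk (fst := 𝔛.toX n) (snd := 𝟙 _)
      (by rw [Category.id_comp]; rfl) (fun s => s.snd)
      (fun s => (cancel_mono (𝔛.ι n)).1 (by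
        rw [s.condition, Category.assoc]
        rfl))
      (fun s => Category.comp_id _) (fun s m _ h₂ => by simpa using h₂))
  exact (comap_ker_of_isPullback hsq).symm

theorem ker_toX_pow_eq_bot (hF : 𝔛.IsFormal) (hA : 𝔛.IsAdic) (n : ℕ) :
    (𝔛.toX n).ker ^ (n + 1) = ⊥ := by
  rw [← comap_ker_toX_succ hF n, ← comap_pow, ← hA n]
  exact comap_ker_self _

theorem ker_ι_pow_two (hF : 𝔛.IsFormal) (hA : 𝔛.IsAdic) (n : ℕ) :
    (𝔛.ι n).ker ^ 2 = ⊥ := by
  rw [hA n, ← pow_mul]
  obtain ⟨k, hk⟩ : ∃ k, (n + 1) * 2 = n + 1 + 1 + k := ⟨n, by ring⟩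
  rw [hk, pow_add, ker_toX_pow_eq_bot hF hA (n + 1), Scheme.IdealSheafData.bot_mul]

/-- Every level of an adic system over a locally Noetherian bottom level with locally finitely
generated first kernel is locally Noetherian. -/
theorem isLocallyNoetherian_level (hF : 𝔛.IsFormal) (hA : 𝔛.IsAdic) [IsLocallyNoetherian (𝔛.X 0)]
    (hft : ∀ x : 𝔛.X 1, ∃ U : (𝔛.X 1).affineOpens, x ∈ U.1 ∧
      ∀ V : (𝔛.X 1).affineOpens, V.1 ≤ U.1 → ((𝔛.ι 0).ker.ideal V).FG) :
    ∀ n, IsLocallyNoetherian (𝔛.X n) := by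
  intro n
  induction n with
  | zero => infer_instance
  | succ n ih =>
    have := (hF n).1
    refine isLocallyNoetherian_of_thickening (𝔛.ι n) (ker_ι_pow_two hF hA n) ?_
    cases n with
    | zero => exact hft
    | succ m =>
      intro x
      obtain ⟨U, hxU, -⟩ := MP99.exists_affine_le x (W := ⊤) trivial
      refine ⟨U, hxU, fun V _ => ?_⟩
      set a := (𝔛.toX (m + 1 + 1)).ker.ideal V with ha
      have hsurj := (𝔛.ι (m + 1)).app_surjective V.1 V.2
      have hB : IsNoetherianRing Γ(𝔛.X (m + 1), 𝔛.ι (m + 1) ⁻¹ᵁ V.1) :=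
        IsLocallyNoetherian.component_noetherian ⟨_, V.2.preimage _⟩
      have hK : (𝔛.ι (m + 1)).ker.ideal V = a ^ (m + 1 + 1) := by rw [hA (m + 1)]; simp [ha]
      rw [hK]
      have hn : a ^ (m + 1 + 1 + 1) = ⊥ := by
        have := congrArg (fun K => K.ideal V) (ker_toX_pow_eq_bot hF hA (m + 1 + 1))
        simpa [ha] using this
      refine Ideal.FG.pow ?_
      obtain ⟨s, hsp⟩ := IsNoetherian.noetherian (a.map ((𝔛.ι (m + 1)).app V.1).hom)
      classical
      obtain ⟨t, hta, htm⟩ : ∃ t : Ideal Γ(𝔛.X (m + 1 + 1), V.1), t.FG ∧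
          (t ≤ a ∧ a ≤ t ⊔ a * a) := by
        choose g hg using fun b : Γ(𝔛.X (m + 1), 𝔛.ι (m + 1) ⁻¹ᵁ V.1) => hsurj b
        have hker : RingHom.ker ((𝔛.ι (m + 1)).app V.1).hom ≤ a * a := by
          rw [← Scheme.Hom.ker_apply, hK, ← pow_two]
          exact Ideal.pow_le_pow_right (by omega)
        refine ⟨Ideal.span (s.image g : Set _), Submodule.fg_span (Finset.finite_toSet _), ?_, ?_⟩
        · refine Ideal.span_le.2 fun z hz => ?_
          obtain ⟨b, hb, rfl⟩ := Finset.mem_image.1 hz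
          have h1 : b ∈ a.map ((𝔛.ι (m + 1)).app V.1).hom :=
            hsp.le (Submodule.subset_span hb)
          rw [← hg b] at h1
          have := Ideal.mem_comap.2 h1
          rw [Ideal.comap_map_of_surjective _ hsurj, ← RingHom.ker_eq_comap_bot] at this
          exact sup_le le_rfl (hker.trans Ideal.mul_le_left) this
        · intro z hz
          have h1 : ((𝔛.ι (m + 1)).app V.1).hom z ∈
              (Ideal.span (s.image g : Set _)).map ((𝔛.ι (m + 1)).app V.1).hom := by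
            rw [Ideal.map_span]
            have : ((𝔛.ι (m + 1)).app V.1).hom '' (s.image g : Set _) = (s : Set _) := by
              ext b
              simp [hg]
            rw [this]
            exact hsp.ge (Ideal.mem_map_of_mem _ hz)
          have := Ideal.mem_comap.2 h1
          rw [Ideal.comap_map_of_surjective _ hsurj, ← RingHom.ker_eq_comap_bot] at this
          exact sup_le_sup_left hker _ this
      obtain ⟨hle, hge⟩ := htm
      have key : ∀ k, a ≤ t ⊔ a ^ (k + 1) := by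
        intro k
        induction k with
        | zero => simp
        | succ k ihk =>
          calc a ≤ t ⊔ a * a := hge
            _ ≤ t ⊔ a * (t ⊔ a ^ (k + 1)) := sup_le_sup_left (Ideal.mul_mono_right ihk) _
            _ = t ⊔ (a * t ⊔ a ^ (k + 1 + 1)) := by rw [Ideal.mul_sup, ← pow_succ']
            _ ≤ t ⊔ a ^ (k + 1 + 1) :=
              sup_le le_sup_left
                (sup_le ((show a * t ≤ t from Ideal.mul_le_right).trans le_sup_left) le_sup_right)
      have h := key (m + 1 + 1)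
      rw [hn, sup_bot_eq] at h
      rw [show a = t from le_antisymm h hle]
      exact hta

/-! ### Adic morphisms -/

variable {𝔖 : Sys.{u}} {f : 𝔛 ⟶ 𝔖}

theorem isPullback_toX (hf : IsAdicHom f) : ∀ n,
    IsPullback (𝔛.toX n) ((f : Hom 𝔛 𝔖).app 0) ((f : Hom 𝔛 𝔖).app n) (𝔖.toX n)
  | 0 => by
    have : IsIso (𝔛.toX 0) := inferInstanceAs (IsIso (𝟙 _))
    have : IsIso (𝔖.toX 0) := inferInstanceAs (IsIso (𝟙 _))
    exact IsPullback.of_horiz_isIso ⟨by simp [Sys.toX]⟩
  | n + 1 => (isPullback_toX hf n).paste_horiz (hf n)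

theorem isFormal_of_isAdicHom (h : 𝔖.IsFormal) (hf : IsAdicHom f) : 𝔛.IsFormal := fun n => by
  refine ⟨MorphismProperty.of_isPullback (hf n).flip (h n).1, ?_⟩
  have : Surjective (𝔖.ι n) := ⟨(h n).2⟩
  exact (MorphismProperty.of_isPullback (P := @Surjective) (hf n).flip this).surj

theorem comap_ker_ι (h : 𝔖.IsFormal) (hf : IsAdicHom f) (n : ℕ) :
    (𝔛.ι n).ker = (𝔖.ι n).ker.comap ((f : Hom 𝔛 𝔖).app (n + 1)) :=
  have := (h n).1
  comap_ker_of_isPullback (hf n)

theorem isAdic_of_isAdicHom (h : 𝔖.IsFormal) (hA : 𝔖.IsAdic) (hf : IsAdicHom f) : 𝔛.IsAdic :=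
  fun n => by
    have := isClosedImmersion_toX h (n + 1)
    rw [comap_ker_ι h hf, hA n, comap_pow, ← comap_ker_of_isPullback (isPullback_toX hf (n + 1))]

theorem isLocNoethFormal_of_isAdicHom (h𝔖 : 𝔖.IsLocNoethFormal) (hf : IsAdicHom f)
    [IsLocallyNoetherian (𝔛.X 0)] : 𝔛.IsLocNoethFormal := by
  obtain ⟨h, hA, hN⟩ := h𝔖
  refine ⟨isFormal_of_isAdicHom h hf, isAdic_of_isAdicHom h hA hf,
    isLocallyNoetherian_level (isFormal_of_isAdicHom h hf) (isAdic_of_isAdicHom h hA hf) fun x => ?_⟩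
  obtain ⟨U, V, hxV, e⟩ := MP99.exists_chart ((f : Hom 𝔛 𝔖).app 1) x
  refine ⟨V, hxV, fun W hW => ?_⟩
  rw [comap_ker_ι h hf 0, MP99.ideal_comap _ _ U W (hW.trans e)]
  have := hN 1
  have : IsNoetherianRing Γ(𝔖.X 1, U.1) := IsLocallyNoetherian.component_noetherian U
  exact Ideal.FG.map (IsNoetherian.noetherian ((𝔖.ι 0).ker.ideal U)) _

end Groth.Agent.An92.FSch
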